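import Mathlib
import Cfsg.Agent.Lib.TwoSquaring.GaussSum

/-!
An automorphism of a Suzuki type `2`-group of order `q ^ 3` (centre of order `q`, all nontrivial central
elements with equally many square roots) whose square is inner centralises the centre (helper60).
-/

set_option autoImplicit false

namespace Cfsg.Agent.Lib.TwoSquaring

open Subgroup
open scoped commutatorElement

variable {G : Type*} [Group G]

theorem squaresIn_center (hz : ∀ z ∈ center G, z ^ 2 = 1) (hsq : ∀ x : G, x ^ 2 ∈ center G) :
    SquaresIn (center G) := by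
  refine ⟨le_rfl, hz, hsq, fun x y => ?_⟩
  rw [← QuotientGroup.eq_one_iff, ← QuotientGroup.mk'_apply, map_commutatorElement,
    commutatorElement_eq_one_iff_mul_comm]
  have h : ∀ a : G ⧸ center G, a * a = 1 := fun a => by
    obtain ⟨a, rfl⟩ := QuotientGroup.mk'_surjective (center G) a
    rw [← map_mul, ← pow_two]
    exact (QuotientGroup.eq_one_iff _).mpr (hsq a)
  have hinv : ∀ a : G ⧸ center G, a⁻¹ = a := fun a => inv_eq_of_mul_eq_one_right (h a)
  calc (QuotientGroup.mk' (center G) x) * QuotientGroup.mk' (center G) y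
      = ((QuotientGroup.mk' (center G) x) * QuotientGroup.mk' (center G) y)⁻¹ := (hinv _).symm
    _ = _ := by rw [mul_inv_rev, hinv, hinv]

/-- For a sign quadratic map that is `1` on a subgroup `W`, the sum of the polar form over `W` is `|W|`
or `0`. -/
theorem sum_polar_subgroup {χ : G → ℤ} (h : SignQuad χ) (W : Subgroup G) [Fintype W] (u : G) :
    (∀ w : W, polar χ u w = 1) ∨ ∑ w : W, polar χ u (w : G) = 0 := by
  by_cases hall : ∀ w : W, polar χ u w = 1
  · exact Or.inl hall
  · right
    rw [not_forall] at hall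
    obtain ⟨w₀, hw₀⟩ := hall
    have hm : polar χ u (w₀ : G) = -1 := (h.polar_sign _ _).resolve_left hw₀
    have h1 : ∑ w : W, polar χ u ((w₀ * w : W) : G) = ∑ w : W, polar χ u (w : G) :=
      Fintype.sum_equiv (Equiv.mulLeft w₀) _ _ fun w => rfl
    simp only [Subgroup.coe_mul, h.mul_right, hm, neg_one_mul, Finset.sum_neg_distrib] at h1
    omega

/-- The sign sum of a quadratic map which is `1` on a subgroup `W` with `|W| ^ 2 ≥ |G| |radical|` is
positive. -/
theorem sum_eq_card_of_isotropic [Fintype G] {χ : G → ℤ} (h : SignQuad χ) (W : Subgroup G)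
    (hrad : h.radical ≤ W) (hW : ∀ w ∈ W, χ w = 1)
    (hcard : Nat.card G * Nat.card h.radical ≤ Nat.card W * Nat.card W) :
    ∑ x, χ x = Nat.card W := by
  classical
  haveI := Fintype.ofFinite W
  set g : G → ℤ := fun u => ∑ w : W, polar χ u (w : G) with hg
  have hpolW : ∀ u ∈ W, ∀ w : W, polar χ u (w : G) = 1 := fun u hu w => by
    unfold polar; rw [hW _ (W.mul_mem hu w.2), hW _ hu, hW _ w.2]; norm_num
  have hgW : ∀ u ∈ W, g u = Nat.card W := fun u hu => by
    simp only [hg, hpolW u hu]
    simp [Nat.card_eq_fintype_card]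
  have hg0 : ∀ u, 0 ≤ g u := fun u => by
    rcases sum_polar_subgroup h W u with h1 | h1
    · simp only [hg, h1]; simp
    · simp only [hg, h1]; exact le_rfl
  -- the total of `g`
  have htot : ∑ u, g u = (Nat.card G : ℤ) * Nat.card h.radical := by
    have h1 : ∀ w : W, ∑ u, polar χ u (w : G) = if (w : G) ∈ h.radical then (Nat.card G : ℤ) else 0 := by
      intro w
      split_ifs with hw
      · rw [h.sum_polar_of_mem hw, Nat.card_eq_fintype_card]
      · exact h.sum_polar_of_not_mem hw
    rw [hg, Finset.sum_comm, Finset.sum_congr rfl fun w _ => h1 w, ← Finset.sum_filter,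
      Finset.sum_const, nsmul_eq_mul, mul_comm]
    congr 1
    rw [Nat.cast_inj, ← Fintype.card_subtype, ← Nat.card_eq_fintype_card]
    exact Nat.card_congr ((Equiv.subtypeEquivRight fun w => Iff.rfl).trans
      (Equiv.subtypeSubtypeEquivSubtype fun {x} hx => hrad hx))
  have hsplit := Finset.sum_filter_add_sum_filter_not Finset.univ (fun u => u ∈ W) g
  have hWsum : ∑ u ∈ Finset.univ.filter (fun u => u ∈ W), g u = (Nat.card W : ℤ) * Nat.card W := by
    rw [Finset.sum_congr rfl fun u hu => hgW u (Finset.mem_filter.mp hu).2, Finset.sum_const,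
      nsmul_eq_mul]
    rw [← Fintype.card_subtype, ← Nat.card_eq_fintype_card]
  have hout : ∀ u, u ∉ W → g u = 0 := by
    have h2 : ∑ u ∈ Finset.univ.filter (fun u => ¬ u ∈ W), g u = 0 := by
      refine le_antisymm ?_ (Finset.sum_nonneg fun u _ => hg0 u)
      have : (Nat.card G : ℤ) * Nat.card h.radical ≤ (Nat.card W : ℤ) * Nat.card W := by
        exact_mod_cast hcard
      linarith [htot, hsplit, hWsum]
    intro u hu
    exact (Finset.sum_eq_zero_iff_of_nonneg fun v _ => hg0 v).mp h2 u (by simp [hu])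
  -- the double sum
  have hdouble : (Nat.card W : ℤ) * ∑ x, χ x = (Nat.card W : ℤ) * Nat.card W := by
    have h1 : ∀ w : W, ∑ u, χ u * polar χ u (w : G) = ∑ x, χ x := fun w => by
      refine Fintype.sum_equiv (Equiv.mulRight (w : G)) _ _ fun u => ?_
      show χ u * polar χ u (w : G) = χ (u * w)
      unfold polar
      rw [hW _ w.2]
      calc χ u * (χ (u * w) * χ u * 1) = χ (u * w) * (χ u * χ u) := by ring
        _ = χ (u * w) := by rw [h.sq_eq_one, mul_one]
    have h2 : ∑ u, χ u * g u = (Nat.card W : ℤ) * ∑ x, χ x := by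
      simp only [hg, Finset.mul_sum]
      rw [Finset.sum_comm, Finset.sum_congr rfl fun w _ => h1 w]
      simp [Finset.mul_sum, Nat.card_eq_fintype_card]
    rw [← h2, ← hWsum, Finset.sum_filter]
    refine Finset.sum_congr rfl fun u _ => ?_
    split_ifs with hu
    · rw [hW u hu, one_mul]
    · rw [hout u hu, mul_zero]
  exact mul_left_cancel₀ (by exact_mod_cast (Nat.card_pos (α := W)).ne') hdouble

/-- An automorphism whose square is inner centralises the centre. -/
theorem fixes_center [Finite G] {q : ℕ} (hq : 2 ≤ q) (hG : Nat.card G = q ^ 3)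
    (hZ : Nat.card (center G) = q) (hsq : ∀ x : G, x ^ 2 ∈ center G)
    (hroot : ∀ x : G, x ^ 2 = 1 ↔ x ∈ center G)
    (hconst : ∀ y ∈ center G, y ≠ 1 → ∀ z ∈ center G, z ≠ 1 →
      Nat.card {x : G // x ^ 2 = y} = Nat.card {x : G // x ^ 2 = z})
    (α : G ≃* G) (s : G) (hα : ∀ x, α (α x) = s * x * s⁻¹) :
    ∀ z ∈ center G, α z = z := by
  classical
  haveI := Fintype.ofFinite G
  have h : SquaresIn (center G) := squaresIn_center (fun z hz => (hroot z).mpr hz) hsq
  letI : CommGroup (center G) :=
    { (inferInstance : Group (center G)) with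
      mul_comm := fun a b => Subtype.ext (mem_center_iff.mp b.2 a) }
  have hαc : ∀ z ∈ center G, α z ∈ center G := fun z hz => mem_center_iff.mpr fun g => by
    obtain ⟨g, rfl⟩ := α.surjective g
    rw [← map_mul, ← map_mul, mem_center_iff.mp hz g]
  let Fix : Subgroup (center G) :=
    { carrier := {z | α (z : G) = z}
      mul_mem' := fun {a b} ha hb => by
        show α ((a : G) * b) = a * b
        rw [map_mul, ha, hb]
      one_mem' := map_one α
      inv_mem' := fun {a} ha => by
        show α ((a : G)⁻¹) = (a : G)⁻¹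
        rw [map_inv, ha] }
  intro z hz
  by_contra hne
  -- a character of the centre trivial on the fixed points
  haveI : HasEnoughRootsOfUnity ℤ 2 :=
    { prim := ⟨-1, IsPrimitiveRoot.neg_one 0 (by norm_num)⟩
      cyc := rootsOfUnity.isCyclic ℤ 2 }
  have hexp : Monoid.exponent (center G ⧸ Fix) ∣ 2 :=
    Monoid.exponent_dvd_of_forall_pow_eq_one fun e => by
      obtain ⟨e, rfl⟩ := QuotientGroup.mk'_surjective Fix e
      rw [← map_pow, show e ^ 2 = 1 from Subtype.ext ((hroot e).mpr e.2), map_one]
  haveI := (inferInstance : HasEnoughRootsOfUnity ℤ 2).of_dvd ℤ hexp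
  have hne' : QuotientGroup.mk' Fix ⟨z, hz⟩ ≠ 1 := fun h1 =>
    hne ((QuotientGroup.eq_one_iff _).mp h1)
  obtain ⟨φ₀, hφ₀⟩ := CommGroup.exists_apply_ne_one_of_hasEnoughRootsOfUnity (center G ⧸ Fix) ℤ hne'
  set φ : center G →* ℤˣ := φ₀.comp (QuotientGroup.mk' Fix) with hφ
  have hφFix : ∀ e ∈ Fix, φ e = 1 := fun e he => by
    rw [hφ, MonoidHom.comp_apply, show QuotientGroup.mk' Fix e = 1 from
      (QuotientGroup.eq_one_iff _).mpr he, map_one]
  -- the sum of the character over the centre
  have hφsum : ∑ e : center G, ((φ e : ℤˣ) : ℤ) = 0 := by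
    have hm : φ ⟨z, hz⟩ = -1 := (Int.units_eq_one_or _).resolve_left hφ₀
    have h1 : ∑ e : center G, ((φ (⟨z, hz⟩ * e) : ℤˣ) : ℤ) = ∑ e : center G, ((φ e : ℤˣ) : ℤ) :=
      Fintype.sum_equiv (Equiv.mulLeft _) _ _ fun e => rfl
    simp [hm, Finset.sum_neg_distrib] at h1
    omega
  -- the number of square roots
  set N : center G → ℕ := fun e => Nat.card {x : G // x ^ 2 = (e : G)} with hN
  have hN1 : N 1 = q := by
    rw [hN, ← hZ]
    exact Nat.card_congr (Equiv.subtypeEquivRight fun x => by simpa using hroot x)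
  have hfib : ∀ e : center G, (Finset.univ.filter fun x : G => (⟨x ^ 2, hsq x⟩ : center G) = e).card
      = N e := fun e => by
    show _ = Nat.card {x : G // x ^ 2 = (e : G)}
    rw [Nat.card_eq_fintype_card, Fintype.card_subtype]
    congr 1
    ext x
    simp [Subtype.ext_iff]
  have hcount : ∑ e : center G, (N e : ℤ) = (q : ℤ) ^ 3 := by
    have h1 := Finset.card_eq_sum_card_fiberwise (s := (Finset.univ : Finset G))
      (t := (Finset.univ : Finset (center G))) (f := fun x => ⟨x ^ 2, hsq x⟩)
      (fun x _ => Finset.mem_univ _)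
    rw [Finset.card_univ, ← Nat.card_eq_fintype_card, hG, Finset.sum_congr rfl fun e _ => hfib e] at h1
    exact_mod_cast h1.symm
  have hsum : ∑ x : G, h.signMap φ x = ∑ e : center G, (N e : ℤ) * ((φ e : ℤˣ) : ℤ) := by
    rw [← Finset.sum_fiberwise (Finset.univ : Finset G) (fun x => (⟨x ^ 2, hsq x⟩ : center G))]
    refine Finset.sum_congr rfl fun e _ => ?_
    rw [Finset.sum_congr rfl fun x hx => (show h.signMap φ x = ((φ e : ℤˣ) : ℤ) by
      rw [← (Finset.mem_filter.mp hx).2]; rfl), Finset.sum_const, hfib, nsmul_eq_mul]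
  obtain ⟨c, hc⟩ : ∃ c : ℤ, ∀ e : center G, (N e : ℤ) = if e = 1 then (q : ℤ) else c := by
    by_cases hex : ∃ e : center G, e ≠ 1
    · obtain ⟨e₀, he₀⟩ := hex
      refine ⟨N e₀, fun e => ?_⟩
      split_ifs with he
      · rw [he, hN1]
      · exact congrArg _ (hconst e e.2 (fun h1 => he (Subtype.ext h1)) e₀ e₀.2
          fun h1 => he₀ (Subtype.ext h1))
    · exact ⟨0, fun e => by rw [not_exists] at hex; rw [not_not.mp (hex e), hN1]; simp⟩
  have hZ' : (Finset.univ : Finset (center G)).card = q := by
    rw [Finset.card_univ, ← Nat.card_eq_fintype_card, hZ]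
  have e1 : (q : ℤ) + ((q : ℤ) - 1) * c = (q : ℤ) ^ 3 := by
    rw [← hcount, Finset.sum_congr rfl fun e _ => hc e,
      ← Finset.add_sum_erase _ _ (Finset.mem_univ (1 : center G)), if_pos rfl,
      Finset.sum_congr rfl fun e he => if_neg (Finset.ne_of_mem_erase he), Finset.sum_const,
      Finset.card_erase_of_mem (Finset.mem_univ _), hZ', nsmul_eq_mul]
    push_cast [Nat.cast_sub (show 1 ≤ q by omega)]
    ring
  have hc' : c = (q : ℤ) * (q + 1) := by
    have : ((q : ℤ) - 1) * c = ((q : ℤ) - 1) * (q * (q + 1)) := by linear_combination e1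
    exact mul_left_cancel₀ (by omega) this
  have hS : ∑ x : G, h.signMap φ x = -((q : ℤ) ^ 2) := by
    rw [hsum, ← Finset.add_sum_erase _ _ (Finset.mem_univ (1 : center G)), hc 1, if_pos rfl,
      Finset.sum_congr rfl fun e he => by rw [hc e, if_neg (Finset.ne_of_mem_erase he)],
      ← Finset.mul_sum]
    have h2 := Finset.add_sum_erase (Finset.univ : Finset (center G))
      (fun e => ((φ e : ℤˣ) : ℤ)) (Finset.mem_univ 1)
    rw [hφsum] at h2
    simp only [map_one, Units.val_one] at h2 ⊢
    rw [hc']
    linear_combination ((q : ℤ) * (q + 1)) * h2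
  -- the radical is the centre
  have hrad : (h.signQuad φ).radical = center G := by
    refine (eq_of_le_of_card_ge (h.center_le_radical φ) ?_).symm
    rcases (h.signQuad φ).sq_sum_eq with h0 | ⟨-, h0⟩
    · rw [hS] at h0
      exfalso
      have h3 := pow_eq_zero_iff two_ne_zero |>.mp h0
      rw [neg_eq_zero, pow_eq_zero_iff two_ne_zero] at h3
      omega
    · rw [hS, hG] at h0
      push_cast at h0
      have h4 : ((q : ℤ) ^ 3) * Nat.card (h.signQuad φ).radical = (q : ℤ) ^ 3 * q := by
        linear_combination -h0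
      have h5 := mul_left_cancel₀ (pow_ne_zero 3 (by omega : (q : ℤ) ≠ 0)) h4
      rw [hZ]
      exact (by exact_mod_cast h5.le)
  -- the preimage of the fixed points modulo the centre
  let π := QuotientGroup.mk' (center G)
  letI : CommGroup (G ⧸ center G) :=
    { (inferInstance : Group (G ⧸ center G)) with
      mul_comm := fun a b => by
        obtain ⟨a, rfl⟩ := QuotientGroup.mk'_surjective (center G) a
        obtain ⟨b, rfl⟩ := QuotientGroup.mk'_surjective (center G) b
        rw [← commutatorElement_eq_one_iff_mul_comm, ← map_commutatorElement]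
        exact (QuotientGroup.eq_one_iff _).mpr (h.comm_mem a b) }
  let δ : G →* G ⧸ center G := MonoidHom.mk' (fun x => π (α x) * π x) fun x y => by
    simp only [map_mul]; exact mul_mul_mul_comm _ _ _ _
  have hVsq : ∀ a : G ⧸ center G, a * a = 1 := fun a => by
    obtain ⟨a, rfl⟩ := QuotientGroup.mk'_surjective (center G) a
    rw [← map_mul, ← pow_two]; exact (QuotientGroup.eq_one_iff _).mpr (hsq a)
  set W := δ.ker with hWdef
  have hrange : δ.range ≤ W.map π := by
    rintro _ ⟨x, rfl⟩
    refine ⟨α x * x, ?_, map_mul π _ _⟩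
    rw [SetLike.mem_coe, MonoidHom.mem_ker]
    show π (α (α x * x)) * π (α x * x) = 1
    have h2 : π (α (α x)) = π x := by
      rw [hα]
      simp only [map_mul, map_inv]
      rw [mul_comm (π s), mul_inv_cancel_right]
    simp only [map_mul]
    rw [h2]
    calc π x * π (α x) * (π (α x) * π x) = π x * (π (α x) * π (α x)) * π x := by
          simp only [mul_assoc]
      _ = 1 := by rw [hVsq, mul_one, hVsq]
  have hZW : center G ≤ W := fun x hx => by
    rw [hWdef, MonoidHom.mem_ker]
    show π (α x) * π x = 1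
    rw [show π x = 1 from (QuotientGroup.eq_one_iff _).mpr hx,
      show π (α x) = 1 from (QuotientGroup.eq_one_iff _).mpr (hαc x hx), one_mul]
  have hWcard : Nat.card G * Nat.card (center G) ≤ Nat.card W * Nat.card W := by
    have h1 := W.index_mul_card
    rw [hWdef, Subgroup.index_ker, ← hWdef] at h1
    have h2 : Nat.card δ.range ≤ Nat.card (W.map π) := Nat.card_le_card_of_injective _
      (Subgroup.inclusion_injective hrange)
    have h3 : Nat.card (W.map π) * Nat.card (center G) = Nat.card W := by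
      have h4 := Subgroup.relIndex_ker π (K := W)
      rw [QuotientGroup.ker_mk'] at h4
      rw [← h4, mul_comm]
      exact card_mul_relIndex' hZW
    calc Nat.card G * Nat.card (center G)
        = Nat.card δ.range * Nat.card W * Nat.card (center G) := by rw [h1]
      _ = Nat.card δ.range * Nat.card (center G) * Nat.card W := by ring
      _ ≤ Nat.card W * Nat.card W := by
          refine Nat.mul_le_mul_right _ ?_
          rw [← h3]; exact Nat.mul_le_mul_right _ h2
  have hWone : ∀ w ∈ W, h.signMap φ w = 1 := by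
    intro w hw
    have h1 : π (α w) * π w = 1 := hw
    have h2 : α w * w ∈ center G := by rw [← QuotientGroup.eq_one_iff]; exact h1
    have h3 : (⟨w ^ 2, hsq w⟩ : center G) ∈ Fix := by
      show α (w ^ 2) = w ^ 2
      obtain ⟨c, hcc, hαw⟩ : ∃ c ∈ center G, α w = c * w :=
        ⟨α w * w * (w ^ 2)⁻¹, mul_mem h2 (inv_mem (hsq w)), by rw [pow_two]; group⟩
      have hcomm : Commute c w := (mem_center_iff.mp hcc w).symm
      rw [map_pow, hαw, hcomm.mul_pow, (hroot c).mpr hcc, one_mul]
    show ((φ ⟨w ^ 2, h.sq_mem w⟩ : ℤˣ) : ℤ) = 1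
    rw [hφFix _ h3, Units.val_one]
  have hfinal := sum_eq_card_of_isotropic (h.signQuad φ) W (by rw [hrad]; exact hZW) hWone
    (by rw [hrad]; exact hWcard)
  rw [hS] at hfinal
  have : 0 < Nat.card W := Nat.card_pos
  nlinarith
where
  card_mul_relIndex' {H K : Subgroup G} (hle : H ≤ K) : Nat.card H * H.relIndex K = Nat.card K := by
    rw [← Subgroup.relIndex_bot_left, ← Subgroup.relIndex_bot_left (H := K)]
    exact Subgroup.relIndex_mul_relIndex ⊥ H K bot_le hle

end Cfsg.Agent.Lib.TwoSquaring
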